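import Mathlib

/-! The fields with 4, 9 and 25 elements given by tables, for fast kernel evaluation. -/

set_option autoImplicit false

namespace CfsgLib.Asch

/-- operations on `Fin N` read off from tables: `A` for the sum; `M` for the product
(rows `< N`), the negative (row `N`), the inverse (row `N + 1`), the conjugate (row `N + 2`) -/
def TabF (N _A _M : ℕ) : Type := Fin N

namespace TabF

variable {N A M : ℕ} [NeZero N]

instance : DecidableEq (TabF N A M) := inferInstanceAs (DecidableEq (Fin N))
instance : Fintype (TabF N A M) := inferInstanceAs (Fintype (Fin N))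
instance (p : TabF N A M → Prop) [h : DecidablePred p] : Decidable (∀ a, p a) :=
  @Nat.decidableForallFin N p h

/-- the element with a given code -/
def c (k : ℕ) : TabF N A M := ⟨Nat.mod k N, Nat.mod_lt _ (NeZero.pos N)⟩
/-- table look-up -/
def lk (T a : ℕ) (b : TabF N A M) : TabF N A M :=
  ⟨Nat.mod (Nat.shiftRight T (Nat.mul (nat_lit 5) (Nat.add (Nat.mul N a) b.1))) N,
    Nat.mod_lt _ (NeZero.pos N)⟩

instance : Zero (TabF N A M) := ⟨c 0⟩
instance : One (TabF N A M) := ⟨c 1⟩
instance : Add (TabF N A M) := ⟨fun a b => lk A a.1 b⟩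
instance : Mul (TabF N A M) := ⟨fun a b => lk M a.1 b⟩
instance : Neg (TabF N A M) := ⟨lk M N⟩
instance : Inv (TabF N A M) := ⟨lk M (N + 1)⟩
/-- the conjugate -/
def bar (a : TabF N A M) : TabF N A M := lk M (N + 2) a

omit [NeZero N] in
theorem card_eq : Fintype.card (TabF N A M) = N := Fintype.card_fin N

end TabF

/-- addition table -/
def tabA4 : ℕ := nat_lit 0x4430806210c0118820
/-- multiplication table -/
def tabM4 : ℕ := nat_lit 0x10c2010c20188201046008c401882000000
/-- the field with 4 elements -/
abbrev TF4 : Type := TabF (nat_lit 4) tabA4 tabM4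

instance : NeZero (nat_lit 4) := ⟨by decide⟩

instance : Field TF4 := Field.ofMinimalAxioms _ (by decide +kernel) (by decide +kernel)
  (by decide +kernel) (by decide +kernel) (by decide +kernel) (by decide +kernel)
  (by decide +kernel) (by decide +kernel) (by decide +kernel) ⟨0, 1, by decide +kernel⟩

theorem card_TF4 : Fintype.card TF4 = 2 ^ 2 := TabF.card_eq

theorem pow_TF4 : ∀ a : TF4, a ^ 2 = a.bar := by decide +kernel

/-- addition table -/
def tabA9 : ℕ := nat_lit 0x40a064118e5420c710025198c12808819ce4118e50050210025191060008819c46084e500503208a5191063880319c4609404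
/-- multiplication table -/
def tabM9 : ℕ := nat_lit 0x2050828c602108420824010832840239902104e7018c5188c82208009c4801028018c101d0411841088a530007290e611480190650804732103388c1280800000000000
/-- the field with 9 elements -/
abbrev TF9 : Type := TabF (nat_lit 9) tabA9 tabM9

instance : NeZero (nat_lit 9) := ⟨by decide⟩

instance : Field TF9 := Field.ofMinimalAxioms _ (by decide +kernel) (by decide +kernel)
  (by decide +kernel) (by decide +kernel) (by decide +kernel) (by decide +kernel)
  (by decide +kernel) (by decide +kernel) (by decide +kernel) ⟨0, 1, by decide +kernel⟩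

theorem card_TF9 : Fintype.card TF9 = 3 ^ 2 := TabF.card_eq

theorem pow_TF9 : ∀ a : TF9, a ^ 3 = a.bar := by decide +kernel

/-- addition table -/
def tabA25 : ℕ := nat_lit 0x128586e2d4489a8276e1e6648945c6e9c586e52c489be076e295648800c6e92946e542289beb66e2811488031ee92ad6e542d79bea21e2813a080331a92ae36542c34bea243a813b660332582ae37bd4489a8276e1e6648945c6e9042c3710489be076e295648800c6e929ac3729489beb66e2811488031ee92ad8372a109bea21e2813a080331a92ae3272a1613ea243a813b660332582ae3722a1618c276e1e6648945c6e9042c3716a244d276e295648800c6e929ac37296244def6e2811488031ee92ad8372a1144df5ae2813a080331a92ae3272a16bcdf511e813b660332582ae3722a161a5f512106648945c6e9042c3716a244d413b70e648800c6e929ac37296244df03b714a488031ee92ad8372a1144df5b371408480331a92ae3272a16bcdf510f1409d80332582ae3722a161a5f5121d409dad5c6e9042c3716a244d413b70f332449c6e929ac37296244df03b714ab244002e92ad8372a1144df5b371408a44018c92ae3272a16bcdf510f1409d04019912ae3722a161a5f5121d409db301992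
/-- multiplication table -/
def tabM25 : ℕ := nat_lit 0x2e2813cd137d5161b9565c6e9580cc93e0ea9ceec3d18b49827d0368d30e2c8cf48e21512eca97123c01368974722c9b55585b86c5dc2f248a88c0b1a26e7558a80b26ca5e66489551d7111be4b7418980da45de8f349e23b5569b8b1756d6b9289c3e115ad8d9dd0e298000886361c565131371e0b305c81de46051ea3cc6709a56800ac33f18a95d7bd08d8b491a48f75a6d5114707d667525ed0e273a8e8392a2989f0141a177da85610d49943625f0a334e323ed0621260562d09269c151768d2c144ed81aab601e5a156f9de11329c76b025b9107aba98189619880c6286b1b6aeb3b072dc0f441315b4026d92644c6f890b8add4b29e70b862823852751e3c16b04bcd6b0207b92015d5ecb1e2b4486d391d848c0aa151788406314834a5025d8f07ba949c98e42f023c0870152c2c91155c2678cd37a1ec9a2b20582e30d588e20d894490d6495552688e71216027b2ee78c0bb20486caea854266912e99991b09202a9e67a4710a897654b891e009b44ba3916615ab98a830a62a94307020ceb3ef5249e74d4608cccd50890bd18e0a0b6c2f055c6e4542c34bea243a813b66033240000000000000000000000000000000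
/-- the field with 25 elements -/
abbrev TF25 : Type := TabF (nat_lit 25) tabA25 tabM25

instance : NeZero (nat_lit 25) := ⟨by decide⟩

instance : Field TF25 := Field.ofMinimalAxioms _ (by decide +kernel) (by decide +kernel)
  (by decide +kernel) (by decide +kernel) (by decide +kernel) (by decide +kernel)
  (by decide +kernel) (by decide +kernel) (by decide +kernel) ⟨0, 1, by decide +kernel⟩

theorem card_TF25 : Fintype.card TF25 = 5 ^ 2 := TabF.card_eq

theorem pow_TF25 : ∀ a : TF25, a ^ 5 = a.bar := by decide +kernel

end CfsgLib.Asch
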